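import Groth.Agent.CAlgH3.FittOmega
import Groth.Agent.OmegaLib.StalkLocal
import Groth.Agent.OmegaLib.ConormalStalk
import Groth.Agent.Misc15.DivDescentSheaf
import Groth.Agent.HilbertBurch29.Spread
import Groth.Agent.EulerLib.Twist
import Groth.Agent.PicLib.PicMonoid
import Groth.Agent.Omega15.Compat

/-!
# `Ω_X ⊗ Fitt₀(Ω_f) = f^* Ω_Y`
-/

set_option autoImplicit false
set_option linter.style.haveILetI false
set_option backward.isDefEq.respectTransparency.types false

universe u

open CategoryTheory CategoryTheory.Limits AlgebraicGeometry Opposite TopologicalSpace TensorProduct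
open Groth.Agent.Coherent Groth.Agent.PicLib Groth.Agent.AmpleLib Groth.Agent.EulerLib
open Groth.Agent.Misc15.DivDescent

namespace Groth.Agent.RamDiv8

/-- The zeroth Fitting ideal of a cyclic module is its annihilator. -/
theorem fitt_zero_of_cyclic {R : Type u} [CommRing R] {M : Type u} [AddCommGroup M] [Module R M] (m : M)
    (hm : Submodule.span R {m} = ⊤) : Fitt.ideal R M 0 = Module.annihilator R M := by
  refine le_antisymm FittLib.ideal_zero_le_annihilator fun r hr => ?_
  have h := FittLib.pow_mem_ideal_zero (fun _ : Fin 1 => m) (by rw [Set.range_const, hm])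
    (fun z => Module.mem_annihilator.1 hr z)
  rwa [pow_one] at h

/-- A submodule of a free module of rank one is the annihilator of the quotient times the module. -/
theorem eq_annihilator_smul_top {R : Type u} [CommRing R] {M : Type u} [AddCommGroup M] [Module R M] (m : M)
    (hm : Submodule.span R {m} = ⊤) (N : Submodule R M) :
    N = Module.annihilator R (M ⧸ N) • (⊤ : Submodule R M) := by
  refine le_antisymm (fun x hx => ?_) (Submodule.smul_le.2 fun r hr x _ => ?_)
  · obtain ⟨c, rfl⟩ := Submodule.mem_span_singleton.1 (hm.ge (Submodule.mem_top : x ∈ ⊤))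
    refine Submodule.smul_mem_smul (Module.mem_annihilator.2 fun q => ?_) trivial
    induction q using Submodule.Quotient.induction_on with
    | _ y =>
      obtain ⟨d, rfl⟩ := Submodule.mem_span_singleton.1 (hm.ge (Submodule.mem_top : y ∈ ⊤))
      rw [← Submodule.Quotient.mk_smul, Submodule.Quotient.mk_eq_zero, smul_comm]
      exact N.smul_mem d hx
  · have h := Module.mem_annihilator.1 hr (Submodule.Quotient.mk x)
    rwa [← Submodule.Quotient.mk_smul, Submodule.Quotient.mk_eq_zero] at h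

variable {X Y S : Scheme.{u}}

local notation "St" => DerSch.stalkFunctor X

/-- The stalk of the zeroth Fitting ideal sheaf. -/
theorem stk_sheafIdeal (G : X.Modules) [Coh.IsQCoh G] (hG : CohB1.IsFT G) (r : ℕ) (x : X) :
    stk (Fitt.sheafIdeal G r) x = Fitt.ideal (X.presheaf.stalk x) ((St x).obj G) r := by
  obtain ⟨U, hU, hxU, -⟩ := exists_isAffineOpen_mem_and_subset (x := x) (U := (⊤ : X.Opens)) trivial
  haveI := FlatMor12.FittSheaf.finite_affine G hG ⟨U, hU⟩
  rw [stk_eq _ ⟨U, hU⟩ hxU, FlatMor12.FittSheaf.ideal_eq G hG]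
  letI : Algebra Γ(X, U) (X.presheaf.stalk x) := (X.presheaf.germ U x hxU).hom.toAlgebra
  letI : Module Γ(X, U) ((St x).obj G) := Module.compHom _ (X.presheaf.germ U x hxU).hom
  haveI : IsScalarTower Γ(X, U) (X.presheaf.stalk x) ((St x).obj G) :=
    IsScalarTower.of_algebraMap_smul fun _ _ => rfl
  let φ : Γ(G, U) →ₗ[Γ(X, U)] (St x).obj G :=
    { toFun := fun m => G.presheaf.germ U x hxU m
      map_add' := fun a b => map_add _ a b
      map_smul' := fun r m => by exact QCohLoc.germ_smul' G hxU r m }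
  haveI : IsLocalizedModule (hU.primeIdealOf ⟨x, hxU⟩).asIdeal.primeCompl φ :=
    EGA43.QcohFP.isLocalizedModule_germ G hU hxU φ fun _ => rfl
  haveI := hU.isLocalization_stalk ⟨x, hxU⟩
  exact (FittLib.ideal_isBaseChange (IsLocalizedModule.isBaseChange
    (hU.primeIdealOf ⟨x, hxU⟩).asIdeal.primeCompl (X.presheaf.stalk x) φ) r).symm

/-- The image of the stalk of an ideal sheaf in the stalk of the structure sheaf. -/
theorem range_idealModι_stalk (I : X.IdealSheafData) (x : X) :
    LinearMap.range ((St x).map (ClSub.idealModι I)).hom =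
      stk I x • (⊤ : Submodule (X.presheaf.stalk x) ((St x).obj (Coh.structureModule X))) := by
  obtain ⟨ι, -, hι⟩ := OmegaLib.exists_idealStalkMap I x
  obtain ⟨U, hU, hxU, -⟩ := exists_isAffineOpen_mem_and_subset (x := x) (U := (⊤ : X.Opens)) trivial
  let one := OmegaLib.gm (Coh.structureModule X) ⊤ x trivial (oneSec ⊤)
  have hall : ∀ (V : X.Opens) (hV : x ∈ V) (s : Γ(Coh.structureModule X, V)),
      OmegaLib.gm (Coh.structureModule X) V x hV s = X.presheaf.germ V x hV (OmegaSh.fnSect X V s) • one := by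
    intro V hV s
    rw [show one = OmegaLib.gm (Coh.structureModule X) V x hV (oneSec V) by
      rw [← resM_oneSec (le_top : V ≤ ⊤)]; exact (OmegaLib.gm_res _ _ le_top _ _).symm, ← OmegaLib.gm_smul]
    exact congrArg _ (mul_one (show Γ(X, V) from s)).symm
  have hz : ∀ z, ((St x).map (ClSub.idealModι I)).hom z = ι z • one := fun z => by
    obtain ⟨V, hV, s, rfl⟩ := OmegaLib.exists_gm _ z
    rw [hι V hV s, OmegaSh.idealSect_apply]
    exact (OmegaLib.map_gm _ _ _ _).trans (hall V hV _)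
  have hstk : ∀ a, a ∈ stk I x ↔ a ∈ LinearMap.range ι := by
    intro a
    rw [stk_eq I ⟨U, hU⟩ hxU]
    constructor
    · intro ha
      refine Submodule.span_induction ?_ (zero_mem _) (fun _ _ _ _ h h' => add_mem h h')
        (fun c _ _ h => Submodule.smul_mem _ c h) ha
      rintro _ ⟨g, hg, rfl⟩
      obtain ⟨p, hp⟩ := (AmpleLib.mem_range_idealModι I U g).2 (by
        rw [← RingHom.mem_ker, I.ker_subschemeι_app ⟨U, hU⟩]; exact hg)
      refine ⟨OmegaLib.gm _ U x hxU p, ?_⟩
      rw [hι U hxU p, OmegaSh.idealSect_apply]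
      exact congrArg (X.presheaf.germ U x hxU) hp
    · rintro ⟨z, rfl⟩
      obtain ⟨V, hV, s, rfl⟩ := OmegaLib.exists_gm _ z
      obtain ⟨W, hW, hxW, hWV⟩ := exists_isAffineOpen_mem_and_subset (x := x) (U := V) hV
      rw [← OmegaLib.gm_res _ hV hWV hxW, hι, ← stk_eq I ⟨U, hU⟩ hxU, stk_eq I ⟨W, hW⟩ hxW]
      refine Ideal.mem_map_of_mem _ ?_
      rw [← I.ker_subschemeι_app ⟨W, hW⟩, RingHom.mem_ker]
      exact (AmpleLib.mem_range_idealModι I W _).1 ⟨_, rfl⟩
  refine le_antisymm ?_ (Submodule.smul_le.2 fun r hr u _ => ?_)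
  · rintro _ ⟨z, rfl⟩
    rw [hz]
    exact Submodule.smul_mem_smul ((hstk _).2 ⟨z, rfl⟩) trivial
  · obtain ⟨V, hV, s, rfl⟩ := OmegaLib.exists_gm _ u
    obtain ⟨z, hz'⟩ := (hstk _).1 (Ideal.mul_mem_right (X.presheaf.germ V x hV (OmegaSh.fnSect X V s)) _ hr)
    refine ⟨z, ?_⟩
    rw [hz, hz', mul_smul, ← hall]

/-- `L ⊗ I ⟶ L`. -/
noncomputable def twistIncl (L : X.Modules) (I : X.IdealSheafData) :
    CohB1.tensorMod L (ClSub.idealMod I) ⟶ L :=
  (tensorComm L (ClSub.idealMod I)).hom ≫ tensorMap (ClSub.idealModι I) (𝟙 L) ≫ (unitTensorIso L).hom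

theorem twistIncl_spec {L : X.Modules} (hL : PicF.IsInvertible L) (I : X.IdealSheafData) :
    Mono (twistIncl L I) ∧ ∀ x, LinearMap.range ((St x).map (twistIncl L I)).hom =
      stk I x • (⊤ : Submodule (X.presheaf.stalk x) ((St x).obj L)) := by
  haveI : Mono (ClSub.idealModι I) := AmpleLib.mono_idealModι I
  haveI := mono_tensorMap hL (ClSub.idealModι I)
  refine ⟨by unfold twistIncl; infer_instance, fun x => ?_⟩
  obtain ⟨W, hxW, g, hg⟩ := exists_isGen hL x
  let a := (twistStalkIso hxW hg (ClSub.idealMod I)).toLinearEquiv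
  let b := (twistStalkIso hxW hg (Coh.structureModule X)).toLinearEquiv
  let c := ((St x).mapIso (tensorComm L (ClSub.idealMod I))).toLinearEquiv
  let u := ((St x).mapIso (unitTensorIso L)).toLinearEquiv
  let φ := b.trans u
  have h : ((St x).map (twistIncl L I)).hom =
      φ.toLinearMap ∘ₗ ((St x).map (ClSub.idealModι I)).hom ∘ₗ (c.trans a.symm).toLinearMap := by
    refine LinearMap.ext fun z => ?_
    have hn : ((St x).map (tensorMap (ClSub.idealModι I) (𝟙 L))).hom (a (a.symm (c z))) =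
        b (((St x).map (ClSub.idealModι I)).hom (a.symm (c z))) :=
      (twistStalk_natural g hxW (ClSub.idealModι I) (a.symm (c z))).symm
    rw [a.apply_symm_apply] at hn
    rw [twistIncl, Functor.map_comp, Functor.map_comp]
    exact congrArg u hn
  rw [h, LinearMap.range_comp, LinearMap.range_comp, LinearEquiv.range, Submodule.map_top, range_idealModι_stalk,
    Submodule.map_smul'', Submodule.map_top, LinearEquiv.range]

/-- Monomorphisms with the same images on stalks have isomorphic sources. -/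
theorem nonempty_iso_of_range_eq {A B C : X.Modules} (a : A ⟶ C) (b : B ⟶ C) [Mono a] [Mono b]
    (h : ∀ x, LinearMap.range ((St x).map a).hom = LinearMap.range ((St x).map b).hom) : Nonempty (A ≅ B) := by
  have key : ∀ {P Q : X.Modules} (p : P ⟶ C) (q : Q ⟶ C) [Mono q],
      (∀ x, LinearMap.range ((St x).map p).hom ≤ LinearMap.range ((St x).map q).hom) → ∃ l, l ≫ q = p := by
    intro P Q p q _ hpq
    have hzero : p ≫ cokernel.π q = 0 := by
      refine Scheme.Modules.hom_ext _ _ fun U => ?_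
      ext s
      refine TopCat.Presheaf.section_ext ⟨(cokernel q).presheaf, (cokernel q).isSheaf⟩ U _ _ fun x hx => ?_
      obtain ⟨w, hw⟩ := hpq x ⟨OmegaLib.gm P U x hx s, rfl⟩
      have h2 : ((St x).map (cokernel.π q)).hom (((St x).map q).hom w) = 0 := by
        have h3 : (St x).map q ≫ (St x).map (cokernel.π q) = 0 := by
          rw [← Functor.map_comp, cokernel.condition, Functor.map_zero]
        exact congr($(h3).hom w)
      rw [hw] at h2
      have h4 : ((St x).map (p ≫ cokernel.π q)).hom (OmegaLib.gm P U x hx s) = 0 := by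
        rw [Functor.map_comp]; exact h2
      exact ((OmegaLib.map_gm _ _ (p ≫ cokernel.π q) s).symm.trans h4).trans (OmegaLib.gm_zero _ hx).symm
    exact ⟨(Abelian.monoIsKernelOfCokernel _ (cokernelIsCokernel q)).lift (KernelFork.ofι p hzero),
      (Abelian.monoIsKernelOfCokernel _ (cokernelIsCokernel q)).fac (KernelFork.ofι p hzero) WalkingParallelPair.zero⟩
  obtain ⟨l, hl⟩ := key a b fun x => (h x).le
  obtain ⟨l', hl'⟩ := key b a fun x => (h x).ge
  exact ⟨⟨l, l', (cancel_mono a).1 (by rw [Category.assoc, hl', hl, Category.id_comp]),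
    (cancel_mono b).1 (by rw [Category.assoc, hl, hl', Category.id_comp])⟩⟩

/-- The stalks of `f^* Ω_{Y/S} ⟶ Ω_{X/S}` have image the Fitting ideal of `Ω_{X/Y}`. -/
theorem range_stalk_compat (f : X ⟶ Y) (g : Y ⟶ S) [IsSeparated f] [IsSeparated g] [LocallyOfFiniteType f]
    (hL : PicF.IsInvertible (Omega.sheaf (f ≫ g)))
    {c : (Scheme.Modules.pullback f).obj (Omega.sheaf g) ⟶ Omega.sheaf (f ≫ g)}
    (hc : OmegaSh.IsDiffCompat f (OmegaSh.dOmega g) (OmegaSh.dOmega (f ≫ g)) c) (x : X) :
    LinearMap.range ((St x).map c).hom = stk (Fitt.sheafIdeal (Omega.sheaf f) 0) x •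
      (⊤ : Submodule (X.presheaf.stalk x) ((St x).obj (Omega.sheaf (f ≫ g)))) := by
  haveI := MorProj.isQCoh_omega f
  rw [stk_sheafIdeal _ (CAlgH3.FittOmega.isFT_omega f)]
  obtain ⟨T, hT, hxT, -⟩ := exists_isAffineOpen_mem_and_subset (x := g (f x)) (U := (⊤ : S.Opens)) trivial
  letI := (f.stalkMap x).hom.toAlgebra
  letI : Algebra Γ(S, T) (Y.presheaf.stalk (f x)) := (S.presheaf.germ T (g (f x)) hxT ≫ g.stalkMap (f x)).hom.toAlgebra
  letI : Algebra Γ(S, T) (X.presheaf.stalk x) :=
    ((f.stalkMap x).hom.comp (algebraMap Γ(S, T) (Y.presheaf.stalk (f x)))).toAlgebra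
  haveI : IsScalarTower Γ(S, T) (Y.presheaf.stalk (f x)) (X.presheaf.stalk x) :=
    IsScalarTower.of_algebraMap_eq fun _ => rfl
  obtain ⟨E₂, hE₂⟩ := OmegaLib.exists_omega_stalk_equiv (f ≫ g) hT x hxT (fun r => by
    rw [Scheme.Hom.stalkMap_comp]
    rfl)
  obtain ⟨E₁, hE₁⟩ := OmegaLib.exists_stalk_compat (OmegaLib.isUniversal_dOmega g) hc hT x hxT
    (fun r => rfl) E₂ hE₂
  obtain ⟨E₃, -⟩ := OmegaLib.exists_stalk_equiv_local (OmegaLib.isUniversal_dOmega f) x
  let π : (St x).obj (Omega.sheaf (f ≫ g)) →ₗ[X.presheaf.stalk x] (St x).obj (Omega.sheaf f) :=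
    E₃.toLinearMap ∘ₗ KaehlerDifferential.map Γ(S, T) (Y.presheaf.stalk (f x)) (X.presheaf.stalk x)
      (X.presheaf.stalk x) ∘ₗ E₂.symm.toLinearMap
  have hπ : Function.Surjective π :=
    E₃.surjective.comp ((KaehlerDifferential.map_surjective _ _ _).comp E₂.symm.surjective)
  have hker : LinearMap.ker π = LinearMap.range ((St x).map c).hom := by
    ext v
    have hex := KaehlerDifferential.exact_mapBaseChange_map Γ(S, T) (Y.presheaf.stalk (f x))
      (X.presheaf.stalk x) (E₂.symm v)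
    rw [LinearMap.mem_ker]
    constructor
    · intro hv
      obtain ⟨t, ht⟩ := hex.1 (E₃.injective (hv.trans (map_zero E₃).symm))
      exact ⟨E₁ t, by rw [hE₁, ht, E₂.apply_symm_apply]⟩
    · rintro ⟨z, rfl⟩
      obtain ⟨t, rfl⟩ := E₁.surjective z
      show E₃ (KaehlerDifferential.map _ _ _ _ (E₂.symm _)) = 0
      rw [hE₁, E₂.symm_apply_apply]
      rw [show KaehlerDifferential.map Γ(S, T) (Y.presheaf.stalk (f x)) (X.presheaf.stalk x) (X.presheaf.stalk x)
        (KaehlerDifferential.mapBaseChange Γ(S, T) (Y.presheaf.stalk (f x)) (X.presheaf.stalk x) t) = 0 from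
        (KaehlerDifferential.exact_mapBaseChange_map Γ(S, T) (Y.presheaf.stalk (f x))
          (X.presheaf.stalk x)).apply_apply_eq_zero t, map_zero]
  obtain ⟨W, hxW, g', hg'⟩ := exists_isGen hL x
  obtain ⟨m, hm⟩ : ∃ m : (St x).obj (Omega.sheaf (f ≫ g)), Submodule.span (X.presheaf.stalk x) {m} = ⊤ := by
    refine ⟨OmegaLib.gm _ W x hxW g', eq_top_iff.2 fun z _ => ?_⟩
    obtain ⟨V, hV, t, rfl⟩ := OmegaLib.exists_gm _ z
    obtain ⟨r, hr⟩ := (hg' (V ⊓ W) inf_le_right).2 (resM _ inf_le_left t)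
    have hy' : x ∈ V ⊓ W := ⟨hV, hxW⟩
    rw [← OmegaLib.gm_res _ hV (inf_le_left : V ⊓ W ≤ V) hy' t,
      ← OmegaLib.gm_res _ hxW (inf_le_right : V ⊓ W ≤ W) hy' g']
    refine Submodule.mem_span_singleton.2 ⟨X.presheaf.germ (V ⊓ W) x hy' r, ?_⟩
    rw [← OmegaLib.gm_smul]
    exact congrArg (fun s => OmegaLib.gm _ (V ⊓ W) x hy' s) hr
  let e := LinearMap.quotKerEquivOfSurjective π hπ
  have hcyc : Submodule.span (X.presheaf.stalk x) {Submodule.Quotient.mk (p := LinearMap.ker π) m} = ⊤ := by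
    refine eq_top_iff.2 fun q _ => ?_
    induction q using Submodule.Quotient.induction_on with
    | _ y =>
      obtain ⟨r, rfl⟩ := Submodule.mem_span_singleton.1 (hm.ge (Submodule.mem_top : y ∈ ⊤))
      exact Submodule.mem_span_singleton.2 ⟨r, (Submodule.Quotient.mk_smul _ _ _).symm⟩
  haveI : Module.Finite (X.presheaf.stalk x) ((St x).obj (Omega.sheaf (f ≫ g)) ⧸ LinearMap.ker π) :=
    ⟨⟨{Submodule.Quotient.mk m}, by rw [Finset.coe_singleton]; exact hcyc⟩⟩
  rw [← FittLib.ideal_congr e 0, fitt_zero_of_cyclic _ hcyc, ← hker]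
  exact eq_annihilator_smul_top m hm _

end Groth.Agent.RamDiv8
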