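import Groth.Agent.RamDiv8.Main
import Groth.Agent.SDiv28.CartierPart
import Mathlib.AlgebraicGeometry.FunctionField
import Mathlib.RingTheory.Etale.Field

/-!
# `Ω_X ⊗ Fitt₀(Ω_f) ≅ f^* Ω_Y` for generically separable maps
-/

set_option autoImplicit false
set_option linter.style.haveILetI false
set_option backward.isDefEq.respectTransparency.types false

universe u

open CategoryTheory CategoryTheory.Limits AlgebraicGeometry Opposite TopologicalSpace
open Groth.Agent.Coherent Groth.Agent.PicLib Groth.Agent.AmpleLib Groth.Agent.EulerLib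
open Groth.Agent.Misc15.DivDescent

namespace Groth.Agent.RamDiv8

variable {X Y S : Scheme.{u}}

local notation "St" => DerSch.stalkFunctor X

/-- The stalk of an invertible module on an integral scheme is free of rank one. -/
theorem exists_stalk_gen [IsIntegral X] {L : X.Modules} (hL : PicF.IsInvertible L) (x : X) :
    ∃ m : (St x).obj L, Submodule.span (X.presheaf.stalk x) {m} = ⊤ ∧
      ∀ r : X.presheaf.stalk x, r • m = 0 → r = 0 := by
  obtain ⟨W, hxW, g, hg⟩ := exists_isGen hL x
  refine ⟨OmegaLib.gm _ W x hxW g, eq_top_iff.2 fun z _ => ?_, fun r hr => ?_⟩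
  · obtain ⟨V, hV, t, rfl⟩ := OmegaLib.exists_gm _ z
    obtain ⟨c, hc⟩ := (hg (V ⊓ W) inf_le_right).2 (resM _ inf_le_left t)
    have hy' : x ∈ V ⊓ W := ⟨hV, hxW⟩
    rw [← OmegaLib.gm_res _ hV (inf_le_left : V ⊓ W ≤ V) hy' t,
      ← OmegaLib.gm_res _ hxW (inf_le_right : V ⊓ W ≤ W) hy' g]
    refine Submodule.mem_span_singleton.2 ⟨X.presheaf.germ (V ⊓ W) x hy' c, ?_⟩
    rw [← OmegaLib.gm_smul]
    exact congrArg (fun s => OmegaLib.gm _ (V ⊓ W) x hy' s) hc
  · obtain ⟨V, hV, c, rfl⟩ := X.presheaf.exists_germ_eq (x := x) r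
    have hy' : x ∈ V ⊓ W := ⟨hV, hxW⟩
    rw [← X.presheaf.germ_res_apply (homOfLE (inf_le_left : V ⊓ W ≤ V)) x hy' c] at hr ⊢
    rw [← OmegaLib.gm_res _ hxW (inf_le_right : V ⊓ W ≤ W) hy' g, ← OmegaLib.gm_smul,
      ← OmegaLib.gm_zero L hy'] at hr
    obtain ⟨T, hT, i, j, he⟩ := TopCat.Presheaf.germ_eq L.presheaf x hy' hy' _ _ hr
    have he' : resM L i.le (X.presheaf.map (homOfLE (inf_le_left : V ⊓ W ≤ V)).op c •
        resM L (inf_le_right : V ⊓ W ≤ W) g) = resM L j.le 0 := he
    rw [resM_smul, resM_resM, map_zero] at he'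
    have h0 : X.presheaf.map (homOfLE i.le).op (X.presheaf.map (homOfLE (inf_le_left : V ⊓ W ≤ V)).op c) = 0 :=
      (hg T (i.le.trans inf_le_right)).1 (he'.trans (zero_smul _ _).symm)
    rw [← X.presheaf.germ_res_apply (homOfLE i.le) x hT, h0, map_zero]

/-- Generic étaleness makes the Fitting ideal of the differentials nonzero everywhere. -/
theorem stk_fitt_ne_bot [IsIntegral X] (f : X ⟶ Y) [IsSeparated f] [LocallyOfFiniteType f]
    (h : Subsingleton ((St (genericPoint X)).obj (Omega.sheaf f))) (x : X) :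
    stk (Fitt.sheafIdeal (Omega.sheaf f) 0) x ≠ ⊥ := by
  haveI := MorProj.isQCoh_omega f
  have hη : genericPoint X ∉ (Fitt.sheafIdeal (Omega.sheaf f) 0).support := fun hs => by
    have := (CAlgH3.FittOmega.mem_support_sheafIdeal_zero_iff _ (CAlgH3.FittOmega.isFT_omega f) _).1 hs
    exact not_nontrivial ((St (genericPoint X)).obj (Omega.sheaf f)) this
  have htop := SDiv28.CartierPart.stk_eq_top hη
  obtain ⟨U, hU, hxU, -⟩ := exists_isAffineOpen_mem_and_subset (x := x) (U := (⊤ : X.Opens)) trivial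
  have hηU : genericPoint X ∈ U := ((genericPoint_spec X).mem_open_set_iff U.2).2 ⟨x, trivial, hxU⟩
  intro h0
  rw [stk_eq _ ⟨U, hU⟩ hxU, Ideal.map_eq_bot_iff_of_injective (germ_injective_of_isIntegral _ x hxU)] at h0
  rw [stk_eq _ ⟨U, hU⟩ hηU, h0, Ideal.map_bot] at htop
  exact bot_ne_top htop

/-- The stalk at the generic point of the differentials of a generically separable map vanishes. -/
theorem subsingleton_omega_generic [IsIntegral X] [IsIntegral Y] (f : X ⟶ Y) [IsSeparated f]
    (e : f (genericPoint X) = genericPoint Y) :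
    letI := ((Y.presheaf.stalkSpecializes (specializes_of_eq e) ≫ f.stalkMap (genericPoint X)).hom).toAlgebra
    Algebra.IsSeparable Y.functionField X.functionField →
      Subsingleton ((St (genericPoint X)).obj (Omega.sheaf f)) := by
  let sp := Y.presheaf.stalkSpecializes (specializes_of_eq e)
  letI : Algebra Y.functionField X.functionField := (sp ≫ f.stalkMap (genericPoint X)).hom.toAlgebra
  intro hsep
  haveI := hsep
  letI : Algebra (Y.presheaf.stalk (f (genericPoint X))) X.functionField := (f.stalkMap (genericPoint X)).hom.toAlgebra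
  letI : Algebra Y.functionField (Y.presheaf.stalk (f (genericPoint X))) := sp.hom.toAlgebra
  haveI : IsScalarTower Y.functionField (Y.presheaf.stalk (f (genericPoint X))) X.functionField :=
    IsScalarTower.of_algebraMap_eq fun _ => rfl
  haveI : Algebra.FormallyUnramified Y.functionField X.functionField := Algebra.FormallyUnramified.of_isSeparable _ _
  haveI : Subsingleton Ω[X.functionField⁄Y.presheaf.stalk (f (genericPoint X))] :=
    (KaehlerDifferential.map_surjective Y.functionField (Y.presheaf.stalk (f (genericPoint X))) X.functionField).subsingleton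
  obtain ⟨E, -⟩ := OmegaLib.exists_stalk_equiv_local (OmegaLib.isUniversal_dOmega f) (genericPoint X)
  exact E.symm.injective.subsingleton

/-- The formula `K_X = f^* K_Y + R`. -/
theorem nonempty_iso [IsIntegral X] (f : X ⟶ Y) (g : Y ⟶ S) (h : X ⟶ S) (hh : f ≫ g = h)
    [IsSeparated f] [IsSeparated g] [LocallyOfFiniteType f]
    (hLX : PicF.IsInvertible (Omega.sheaf h)) (hLY : PicF.IsInvertible (Omega.sheaf g))
    (hgen : Subsingleton ((St (genericPoint X)).obj (Omega.sheaf f))) :
    Nonempty (CohB1.tensorMod (Omega.sheaf h) (ClSub.idealMod (Fitt.sheafIdeal (Omega.sheaf f) 0)) ≅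
      (Scheme.Modules.pullback f).obj (Omega.sheaf g)) := by
  subst hh
  obtain ⟨c, hc, -⟩ := Omega15.existsUnique_compat f (𝟙 S) (by rw [Category.comp_id])
    (OmegaLib.isUniversal_dOmega g) (OmegaSh.dOmega (f ≫ g))
  obtain ⟨hmono, hrange⟩ := twistIncl_spec hLX (Fitt.sheafIdeal (Omega.sheaf f) 0)
  haveI := hmono
  have hcr := range_stalk_compat f g hLX hc
  haveI : Mono c := OmegaLib.mono_of_stalks_injective c fun x => by
    obtain ⟨m, hm, hm0⟩ := exists_stalk_gen hLX x
    obtain ⟨p, hp, -⟩ := exists_stalk_gen (PicLoc.isInvertible_pullback f hLY) x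
    obtain ⟨s, hs⟩ := Submodule.mem_span_singleton.1 (hm.ge (Submodule.mem_top :
      ((St x).map c).hom p ∈ ⊤))
    have hs0 : s ≠ 0 := fun h0 => by
      obtain ⟨a, ha, ha0⟩ := Submodule.exists_mem_ne_zero_of_ne_bot (stk_fitt_ne_bot f hgen x)
      obtain ⟨z, hz⟩ := (hcr x).ge (Submodule.smul_mem_smul ha (Submodule.mem_top : m ∈ ⊤))
      obtain ⟨b, rfl⟩ := Submodule.mem_span_singleton.1 (hp.ge (Submodule.mem_top : z ∈ ⊤))
      rw [map_smul, ← hs, h0, zero_smul, smul_zero] at hz
      exact ha0 (hm0 a hz.symm)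
    refine (injective_iff_map_eq_zero ((St x).map c).hom).2 fun z hz => ?_
    obtain ⟨b, rfl⟩ := Submodule.mem_span_singleton.1 (hp.ge (Submodule.mem_top : z ∈ ⊤))
    rw [map_smul, ← hs, smul_smul] at hz
    rw [(mul_eq_zero.1 (hm0 _ hz)).resolve_right hs0, zero_smul]
  exact nonempty_iso_of_range_eq _ c fun x => (hrange x).trans (hcr x).symm

end Groth.Agent.RamDiv8
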